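import Groth.Agent.ParaDef.Extend
import Groth.Agent.RamSam.RegPara

/-!
# Lifting functionals along a normally flat ideal in a complete ring
-/

set_option linter.style.haveILetI false

universe u

open IsLocalRing

namespace Groth.Agent.ParaDef

open Groth.Agent.RamSam

variable {A : Type u} [CommRing A] {n m : ℕ}

/-- The functional given by a vector. -/
noncomputable abbrev dot (v : Fin n → A) : (Fin n → A) →ₗ[A] A := Fintype.linearCombination A v

theorem dot_apply (v x : Fin n → A) : dot v x = ∑ k, x k * v k := rfl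

theorem mem_smul_top_iff (J : Ideal A) (x : Fin n → A) :
    x ∈ J • (⊤ : Submodule A (Fin n → A)) ↔ ∀ k, x k ∈ J := by
  refine ⟨fun h k => ?_, fun h => ?_⟩
  · exact Submodule.smul_induction_on (p := fun y : Fin n → A => y k ∈ J) h
      (fun r hr y _ => J.mul_mem_right _ hr) fun y z hy hz => J.add_mem hy hz
  · rw [pi_eq_sum_univ' x]
    exact Submodule.sum_mem _ fun k _ => Submodule.smul_mem_smul (h k) Submodule.mem_top

theorem cert_decomp {w : Fin m → Fin n → A} {g : A} {e lam b : Fin n → A} {c : Fin n → Fin m → A}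
    (h : IsCert w g e lam b c) (x : Fin n → A) :
    g • x = dot b x • e + ∑ j, dot (fun k => c k j) x • w j := by
  obtain ⟨-, -, h3⟩ := h
  funext k'
  simp only [Pi.smul_apply, Pi.add_apply, Finset.sum_apply, smul_eq_mul, dot_apply, Finset.sum_mul]
  rw [Finset.sum_comm, ← Finset.sum_add_distrib]
  calc g * x k' = ∑ k, x k * (if k = k' then g else 0) := by simp [mul_comm]
    _ = _ := Finset.sum_congr rfl fun k _ => by
      rw [h3 k k', mul_add, Finset.mul_sum]
      congr 1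
      · ring
      · exact Finset.sum_congr rfl fun j _ => by ring

theorem cert_dot_lam {w : Fin m → Fin n → A} {g : A} {e lam b : Fin n → A} {c : Fin n → Fin m → A}
    (h : IsCert w g e lam b c) : dot lam e = g ∧ ∀ x ∈ Submodule.span A (Set.range w), dot lam x = 0 := by
  obtain ⟨h1, h2, -⟩ := h
  refine ⟨by rw [dot_apply, ← h2]; exact Finset.sum_congr rfl fun k _ => mul_comm _ _, fun x hx => ?_⟩
  have : Submodule.span A (Set.range w) ≤ LinearMap.ker (dot lam) := Submodule.span_le.mpr (by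
    rintro _ ⟨j, rfl⟩
    show dot lam (w j) = 0
    rw [dot_apply, ← h1 j]
    exact Finset.sum_congr rfl fun k _ => mul_comm _ _)
  exact this hx

/-- The conditions for three elements to be regular on every graded piece along an ideal. -/
structure GrReg (J : Ideal A) (a b c : A) : Prop where
  gr₁ : ∀ (N : ℕ), ∀ x ∈ J ^ N, a * x ∈ J ^ (N + 1) → x ∈ J ^ (N + 1)
  gr₂ : ∀ (N : ℕ), ∀ x ∈ J ^ N, b * x ∈ Ideal.span {a} * J ^ N ⊔ J ^ (N + 1) →
    x ∈ Ideal.span {a} * J ^ N ⊔ J ^ (N + 1)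
  gr₃ : ∀ (N : ℕ), ∀ x ∈ J ^ N, c * x ∈ Ideal.span {a, b} * J ^ N ⊔ J ^ (N + 1) →
    x ∈ Ideal.span {a, b} * J ^ N ⊔ J ^ (N + 1)

theorem GrReg.mem_of_pow_mul {J : Ideal A} {a b c : A} (h : GrReg J a b c) (N : ℕ) {x : A} (hx : x ∈ J ^ N) :
    ∀ k, a ^ k * x ∈ J ^ (N + 1) → x ∈ J ^ (N + 1) := by
  intro k
  induction k with
  | zero => simp
  | succ k ih =>
    intro hk
    refine ih (h.gr₁ N _ ((J ^ N).mul_mem_left _ hx) ?_)
    rwa [← mul_assoc, ← pow_succ']

/-- The graded piece carries a regular sequence. -/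
theorem GrReg.reg3 {J : Ideal A} {a b c : A} (h : GrReg J a b c) (N : ℕ) :
    Reg3 (↥(J ^ N) ⧸ Submodule.comap (Submodule.subtype (J ^ N)) (J ^ (N + 1))) a b c := by
  set Q := Submodule.comap (Submodule.subtype (J ^ N)) (J ^ (N + 1))
  have hmk : ∀ z : ↥(J ^ N), Submodule.Quotient.mk (p := Q) z = 0 ↔ (z : A) ∈ J ^ (N + 1) := fun z =>
    Submodule.Quotient.mk_eq_zero Q
  refine ⟨fun x hx => ?_, fun x y hxy => ?_, fun x y z hxyz => ?_⟩
  · obtain ⟨x, rfl⟩ := Submodule.Quotient.mk_surjective Q x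
    rw [← Submodule.Quotient.mk_smul, hmk] at hx
    rw [hmk]
    exact h.gr₁ N _ x.2 hx
  · obtain ⟨x, rfl⟩ := Submodule.Quotient.mk_surjective Q x
    obtain ⟨y, rfl⟩ := Submodule.Quotient.mk_surjective Q y
    rw [← Submodule.Quotient.mk_smul, ← Submodule.Quotient.mk_smul, Submodule.Quotient.eq] at hxy
    have h1 : b * (x : A) ∈ Ideal.span {a} * J ^ N ⊔ J ^ (N + 1) :=
      Submodule.mem_sup.mpr ⟨a * (y : A), Ideal.mul_mem_mul (Ideal.mem_span_singleton_self a) y.2,
        b * (x : A) - a * (y : A), hxy, by ring⟩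
    obtain ⟨p, hp, q, hq, hpq⟩ := Submodule.mem_sup.mp (h.gr₂ N _ x.2 h1)
    obtain ⟨z, hz, rfl⟩ := Ideal.mem_span_singleton_mul.mp hp
    refine ⟨Submodule.Quotient.mk ⟨z, hz⟩, ?_⟩
    rw [← Submodule.Quotient.mk_smul, Submodule.Quotient.eq]
    show (x : A) - a * z ∈ J ^ (N + 1)
    rwa [← hpq, add_sub_cancel_left]
  · obtain ⟨x, rfl⟩ := Submodule.Quotient.mk_surjective Q x
    obtain ⟨y, rfl⟩ := Submodule.Quotient.mk_surjective Q y
    obtain ⟨z, rfl⟩ := Submodule.Quotient.mk_surjective Q z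
    rw [← Submodule.Quotient.mk_smul, ← Submodule.Quotient.mk_smul, ← Submodule.Quotient.mk_smul,
      ← Submodule.Quotient.mk_add, Submodule.Quotient.eq] at hxyz
    have hle₁ : Ideal.span {a} * J ^ N ≤ Ideal.span {a, b} * J ^ N := Ideal.mul_mono_left (Ideal.span_mono (by simp))
    have h1 : c * (x : A) ∈ Ideal.span {a, b} * J ^ N ⊔ J ^ (N + 1) :=
      Submodule.mem_sup.mpr ⟨a * (y : A) + b * (z : A),
        add_mem (hle₁ (Ideal.mul_mem_mul (Ideal.mem_span_singleton_self a) y.2))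
          (Ideal.mul_mem_mul (Ideal.subset_span (by simp)) z.2),
        c * (x : A) - (a * (y : A) + b * (z : A)), hxyz, by ring⟩
    obtain ⟨p, hp, q, hq, hpq⟩ := Submodule.mem_sup.mp (h.gr₃ N _ x.2 h1)
    rw [Ideal.span_insert, Ideal.sup_mul] at hp
    obtain ⟨p₁, hp₁, p₂, hp₂, rfl⟩ := Submodule.mem_sup.mp hp
    obtain ⟨s, hs, rfl⟩ := Ideal.mem_span_singleton_mul.mp hp₁
    obtain ⟨t, ht, rfl⟩ := Ideal.mem_span_singleton_mul.mp hp₂
    refine ⟨Submodule.Quotient.mk ⟨s, hs⟩, Submodule.Quotient.mk ⟨t, ht⟩, ?_⟩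
    rw [← Submodule.Quotient.mk_smul, ← Submodule.Quotient.mk_smul, ← Submodule.Quotient.mk_add, Submodule.Quotient.eq]
    show (x : A) - (a * s + b * t) ∈ J ^ (N + 1)
    rwa [← hpq, add_sub_cancel_left]

/-- An element locally in an ideal on the punctured spectrum is carried into it by powers of the maximal ideal. -/
theorem exists_pow_smul_mem [IsLocalRing A] {M : Type*} [AddCommGroup M] [Module A M] (S : Submodule A M) (x : M)
    (a : A) (ha : a ∈ maximalIdeal A)
    (h : ∀ P : Ideal A, P.IsPrime → P ≠ maximalIdeal A → ∃ s ∉ P, s • x ∈ S) : ∃ k : ℕ, a ^ k • x ∈ S := by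
  let I : Ideal A := S.comap (LinearMap.toSpanSingleton A M x)
  have hI : ∀ s, s ∈ I ↔ s • x ∈ S := fun s => Iff.rfl
  have : a ∈ I.radical := by
    rw [Ideal.radical_eq_sInf, Submodule.mem_sInf]
    rintro P ⟨hIP, hP⟩
    by_contra haP
    obtain ⟨s, hs, hsx⟩ := h P hP (fun he => haP (he ▸ ha))
    exact hs (hIP ((hI s).mpr hsx))
  obtain ⟨k, hk⟩ := this
  exact ⟨k, (hI _).mp hk⟩

theorem mem_of_forall_sup_pow [IsLocalRing A] [IsNoetherianRing A] (J : Ideal A) {x : A}
    (h : ∀ N, x ∈ J ⊔ maximalIdeal A ^ N) : x ∈ J := by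
  by_cases hJ : J = ⊤
  · rw [hJ]; trivial
  haveI : Nontrivial (A ⧸ J) := Ideal.Quotient.nontrivial_iff.mpr hJ
  have h1 : (maximalIdeal A).map (Ideal.Quotient.mk J) ≠ ⊤ := by
    intro ht
    have := congrArg (Ideal.comap (Ideal.Quotient.mk J)) ht
    rw [Ideal.comap_map_of_surjective _ Ideal.Quotient.mk_surjective, ← RingHom.ker_eq_comap_bot, Ideal.mk_ker,
      sup_eq_left.mpr (le_maximalIdeal hJ), Ideal.comap_top] at this
    exact (maximalIdeal.isMaximal A).ne_top this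
  haveI : IsLocalRing (A ⧸ J) := IsLocalRing.of_surjective' (Ideal.Quotient.mk J) Ideal.Quotient.mk_surjective
  rw [← Ideal.Quotient.eq_zero_iff_mem, ← Ideal.mem_bot,
    ← Ideal.iInf_pow_eq_bot_of_isLocalRing _ h1, Submodule.mem_iInf]
  intro N
  obtain ⟨p, hp, q, hq, rfl⟩ := Submodule.mem_sup.mp (h N)
  rw [map_add, Ideal.Quotient.eq_zero_iff_mem.mpr hp, zero_add, ← Ideal.map_pow]
  exact Ideal.mem_map_of_mem _ hq

/-- Certificates off the closed point. -/
def HasCerts [IsLocalRing A] (w : Fin m → Fin n → A) : Prop :=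
  ∀ P : Ideal A, P.IsPrime → P ≠ maximalIdeal A → ∃ g ∉ P, ∃ e lam b c, IsCert w g e lam b c

set_option maxHeartbeats 800000 in
/-- One step of the lifting. -/
theorem exists_step [IsLocalRing A] [IsNoetherianRing A] (J : Ideal A) {a b c : A} (ha : a ∈ maximalIdeal A)
    (hb : b ∈ maximalIdeal A) (hG : GrReg J a b c) (w : Fin m → Fin n → A) (hR : HasCerts w) (u₀ : Fin n → A)
    (hu₀ : ∀ j, dot u₀ (w j) ∈ J)
    (hsurj : ∀ P : Ideal A, P.IsPrime → P ≠ maximalIdeal A → J ≤ P → ∃ x, dot u₀ x ∉ P)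
    (za zb zc : Fin n → A) (hza : dot u₀ za - a ∈ J) (hzb : dot u₀ zb - b ∈ J) (hzc : dot u₀ zc - c ∈ J)
    (N : ℕ) (v : Fin n → A) (hv : ∀ j, dot v (w j) ∈ J ^ (N + 1)) :
    ∃ v' : Fin n → A, (∀ j, dot v' (w j) ∈ J ^ (N + 2)) ∧ ∀ k, v' k - v k ∈ J ^ (N + 1) := by
  classical
  let K := Submodule.span A (Set.range w)
  let JT : Submodule A (Fin n → A) := J • ⊤
  let K₁ : Submodule A (Fin n → A) := Submodule.comap (dot u₀) J
  set Q := Submodule.comap (Submodule.subtype (J ^ (N + 1))) (J ^ (N + 1 + 1))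
  have hK : ∀ x ∈ K, dot v x ∈ J ^ (N + 1) := fun x hx => by
    have : K ≤ Submodule.comap (dot v) (J ^ (N + 1)) := Submodule.span_le.mpr (by rintro _ ⟨j, rfl⟩; exact hv j)
    exact this hx
  let φK : K →ₗ[A] (↥(J ^ (N + 1)) ⧸ Q) :=
    Q.mkQ.comp (LinearMap.codRestrict (J ^ (N + 1)) ((dot v).comp K.subtype) fun x => hK x x.2)
  let f : (Fin n → A) →ₗ.[A] (↥(J ^ (N + 1)) ⧸ Q) := ⟨K, φK⟩
  let g : (Fin n → A) →ₗ.[A] (↥(J ^ (N + 1)) ⧸ Q) := ⟨JT, 0⟩
  -- compatibility
  have hfg : ∀ (x : f.domain) (y : g.domain), (x : Fin n → A) = y → f x = g y := by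
    rintro ⟨x, hxK⟩ ⟨y, hyJ⟩ (rfl : x = y)
    show φK ⟨x, hxK⟩ = 0
    refine (Submodule.Quotient.mk_eq_zero Q).mpr ?_
    show dot v x ∈ J ^ (N + 1 + 1)
    obtain ⟨k, hk⟩ := exists_pow_smul_mem (J ^ (N + 1 + 1)) (dot v x) a ha fun P hP hPm => by
      by_cases hJP : J ≤ P
      · obtain ⟨g', hg', e, lam, b', c', hc⟩ := hR P hP hPm
        refine ⟨g' * g', fun h => hg' ((hP.mem_or_mem h).elim id id), ?_⟩
        obtain ⟨hle, hlK⟩ := cert_dot_lam hc
        have hd := cert_decomp hc x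
        have h0 : g' * dot b' x = 0 := by
          have := congrArg (dot lam) hd
          rw [map_smul, hlK x hxK, smul_zero, map_add, map_smul, hle, map_sum,
            Finset.sum_eq_zero (fun j _ => by
              rw [map_smul, hlK _ (Submodule.subset_span ⟨j, rfl⟩), smul_zero]), add_zero, smul_eq_mul] at this
          rw [mul_comm]
          exact this.symm
        have : (g' * g') • dot v x = g' * ∑ j, dot (fun k => c' k j) x * dot v (w j) := by
          rw [smul_eq_mul, mul_assoc, ← smul_eq_mul g' (dot v x), ← map_smul, hd, map_add, map_smul, map_sum]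
          simp only [map_smul, smul_eq_mul]
          rw [mul_add, ← mul_assoc, h0, zero_mul, zero_add]
        rw [this]
        refine (J ^ (N + 1 + 1)).mul_mem_left _ (Ideal.sum_mem _ fun j _ => ?_)
        rw [pow_succ' J (N + 1)]
        refine Ideal.mul_mem_mul ?_ (hv j)
        rw [dot_apply]
        exact Ideal.sum_mem _ fun k _ => J.mul_mem_right _ ((mem_smul_top_iff J x).mp hyJ k)
      · obtain ⟨s, hsJ, hsP⟩ := SetLike.not_le_iff_exists.mp hJP
        refine ⟨s, hsP, ?_⟩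
        rw [pow_succ' J (N + 1)]
        exact Ideal.mul_mem_mul hsJ (hK x hxK)
    exact hG.mem_of_pow_mul (N + 1) (hK x hxK) k hk
  let φ₀ := f.sup g hfg
  have hdom : φ₀.domain = K ⊔ JT := rfl
  have hLK₁ : φ₀.domain ≤ K₁ := sup_le (Submodule.span_le.mpr (by rintro _ ⟨j, rfl⟩; exact hu₀ j)) fun x hx => by
    show dot u₀ x ∈ J
    rw [dot_apply]
    exact Ideal.sum_mem _ fun k _ => J.mul_mem_right _ ((mem_smul_top_iff J x).mp hx k)
  -- the kernel modulo the domain is killed on the punctured spectrum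
  have hT : ∀ y ∈ K₁, ∀ s ∈ maximalIdeal A, ∃ k : ℕ, s ^ k • y ∈ φ₀.domain := fun y hy s hs =>
    exists_pow_smul_mem φ₀.domain y s hs fun P hP hPm => by
      by_cases hJP : J ≤ P
      · obtain ⟨g', hg', e, lam, b', c', hc⟩ := hR P hP hPm
        have hmod : ∀ z, g' * dot u₀ z - dot b' z * dot u₀ e ∈ J := fun z => by
          have := congrArg (dot u₀) (cert_decomp hc z)
          rw [map_smul, map_add, map_smul, map_sum, smul_eq_mul, smul_eq_mul] at this
          rw [this, add_sub_cancel_left]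
          refine Ideal.sum_mem _ fun j _ => ?_
          rw [map_smul, smul_eq_mul]
          exact J.mul_mem_left _ (hu₀ j)
        have hε : dot u₀ e ∉ P := fun h => by
          obtain ⟨z, hz⟩ := hsurj P hP hPm hJP
          have h2 := add_mem (hJP (hmod z)) (P.mul_mem_left (dot b' z) h)
          rw [sub_add_cancel] at h2
          exact (hP.mem_or_mem h2).elim hg' hz
        refine ⟨dot u₀ e * g', fun h => (hP.mem_or_mem h).elim hε hg', ?_⟩
        rw [mul_smul, cert_decomp hc y, smul_add, smul_smul, hdom]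
        refine add_mem (Submodule.mem_sup_right (Submodule.smul_mem_smul ?_ Submodule.mem_top))
          (Submodule.mem_sup_left (K.smul_mem _ (K.sum_mem fun j _ => K.smul_mem _ (Submodule.subset_span ⟨j, rfl⟩))))
        have h2 := sub_mem (J.mul_mem_left g' (show dot u₀ y ∈ J from hy)) (hmod y)
        rw [sub_sub_cancel, mul_comm] at h2
        exact h2
      · obtain ⟨t, htJ, htP⟩ := SetLike.not_le_iff_exists.mp hJP
        exact ⟨t, htP, hdom ▸ Submodule.mem_sup_right (Submodule.smul_mem_smul htJ Submodule.mem_top)⟩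
  obtain ⟨ψ, hψ⟩ := extend_saturation (hG.reg3 (N + 1)) φ₀.domain K₁ hLK₁ (fun y hy => by
    obtain ⟨k₁, h₁⟩ := hT y hy a ha
    obtain ⟨k₂, h₂⟩ := hT y hy b hb
    exact ⟨k₁ + k₂, by
      rw [show a ^ (k₁ + k₂) = a ^ k₂ * a ^ k₁ by ring, mul_smul]; exact Submodule.smul_mem _ _ h₁,
      by rw [show b ^ (k₁ + k₂) = b ^ k₁ * b ^ k₂ by ring, mul_smul]; exact Submodule.smul_mem _ _ h₂⟩) φ₀.toFun
  have hJF : ∀ r ∈ J, ∀ z : ↥(J ^ (N + 1)) ⧸ Q, r • z = 0 := fun r hr z => by
    obtain ⟨z, rfl⟩ := Submodule.Quotient.mk_surjective Q z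
    rw [← Submodule.Quotient.mk_smul, Submodule.Quotient.mk_eq_zero]
    show r * (z : A) ∈ J ^ (N + 1 + 1)
    rw [pow_succ' J (N + 1)]
    exact Ideal.mul_mem_mul hr z.2
  obtain ⟨U, hU⟩ := extend_top (hG.reg3 (N + 1)) J hJF (dot u₀) za zb zc hza hzb hzc ψ (fun r hr y h => by
    have hmem : r • y ∈ JT := Submodule.smul_mem_smul hr Submodule.mem_top
    rw [hψ (r • y) (hdom ▸ Submodule.mem_sup_right hmem) h]
    have h1 := f.sup_apply hfg (0 : f.domain) (⟨r • y, hmem⟩ : g.domain)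
      ⟨r • y, hdom ▸ Submodule.mem_sup_right hmem⟩ (by simp)
    refine h1.trans ?_
    rw [LinearPMap.map_zero, zero_add]
    rfl)
  choose u hu using fun k => Submodule.Quotient.mk_surjective Q (U (Pi.single k 1))
  refine ⟨fun k => v k - (u k : A), fun j => ?_, fun k => ?_⟩
  · have hwK : w j ∈ K := Submodule.subset_span ⟨j, rfl⟩
    have hwK₁ : w j ∈ K₁ := hu₀ j
    have h1 := hU (w j) hwK₁
    rw [hψ (w j) (hdom ▸ Submodule.mem_sup_left hwK) hwK₁] at h1
    have h2 := f.sup_apply hfg (⟨w j, hwK⟩ : f.domain) (0 : g.domain)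
      ⟨w j, hdom ▸ Submodule.mem_sup_left hwK⟩ (by simp)
    have h3 : U (w j) = φK ⟨w j, hwK⟩ := h1.trans (h2.trans (by rw [LinearPMap.map_zero, add_zero]; rfl))
    have h4 : U (w j) = Submodule.Quotient.mk (∑ k, w j k • u k) := by
      conv_lhs => rw [pi_eq_sum_univ' (w j)]
      rw [map_sum, ← Submodule.mkQ_apply, map_sum]
      refine Finset.sum_congr rfl fun k _ => ?_
      rw [map_smul, map_smul, Submodule.mkQ_apply, hu]
    rw [h4] at h3
    have h5 := neg_mem (((Submodule.Quotient.eq Q).mp h3) : ((∑ k, w j k • u k) - _ : ↥(J ^ (N + 1))) ∈ Q)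
    show dot (fun k => v k - (u k : A)) (w j) ∈ J ^ (N + 1 + 1)
    rw [show dot (fun k => v k - (u k : A)) (w j) = -((∑ k, w j k * (u k : A)) - dot v (w j)) by
      simp [dot_apply, mul_sub, Finset.sum_sub_distrib]]
    have h6 : -(((∑ k, w j k • u k : ↥(J ^ (N + 1))) : A) - dot v (w j)) ∈ J ^ (N + 1 + 1) := h5
    simpa [Submodule.coe_sum] using h6
  · show v k - (u k : A) - v k ∈ J ^ (N + 1)
    rw [sub_sub_cancel_left]
    exact neg_mem (u k).2

/-- Functionals lift in a complete ring. -/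
theorem exists_lift [IsLocalRing A] [IsNoetherianRing A] [IsAdicComplete (maximalIdeal A) A] (J : Ideal A)
    (hJ : J ≤ maximalIdeal A) {a b c : A} (ha : a ∈ maximalIdeal A) (hb : b ∈ maximalIdeal A) (hG : GrReg J a b c)
    (w : Fin m → Fin n → A) (hR : HasCerts w) (u₀ : Fin n → A) (hu₀ : ∀ j, dot u₀ (w j) ∈ J)
    (hsurj : ∀ P : Ideal A, P.IsPrime → P ≠ maximalIdeal A → J ≤ P → ∃ x, dot u₀ x ∉ P)
    (za zb zc : Fin n → A) (hza : dot u₀ za - a ∈ J) (hzb : dot u₀ zb - b ∈ J) (hzc : dot u₀ zc - c ∈ J) :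
    ∃ v : Fin n → A, (∀ j, dot v (w j) = 0) ∧ ∀ k, v k - u₀ k ∈ J := by
  classical
  have step := fun (N : ℕ) (v : { v : Fin n → A // ∀ j, dot v (w j) ∈ J ^ (N + 1) }) =>
    exists_step J ha hb hG w hR u₀ hu₀ hsurj za zb zc hza hzb hzc N v.1 v.2
  let s : ∀ N : ℕ, { v : Fin n → A // ∀ j, dot v (w j) ∈ J ^ (N + 1) } :=
    Nat.rec ⟨u₀, fun j => by rw [pow_one]; exact hu₀ j⟩ fun N v => ⟨(step N v).choose, (step N v).choose_spec.1⟩
  have hs : ∀ N k, (s (N + 1)).1 k - (s N).1 k ∈ J ^ (N + 1) := fun N k => (step N (s N)).choose_spec.2 k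
  have hle : ∀ N M, N ≤ M → ∀ k, (s M).1 k - (s N).1 k ∈ J ^ (N + 1) := by
    intro N M h k
    induction M, h using Nat.le_induction with
    | base => rw [sub_self]; exact zero_mem _
    | succ M hNM ih =>
      rw [← sub_add_sub_cancel _ ((s M).1 k) ((s N).1 k)]
      exact add_mem (Ideal.pow_le_pow_right (by omega) (hs M k)) ih
  have hsm : ∀ {N : ℕ} {x y : A}, x ≡ y [SMOD (maximalIdeal A ^ N • ⊤ : Submodule A A)] ↔
      x - y ∈ maximalIdeal A ^ N := fun {N x y} => by rw [SModEq.sub_mem, smul_eq_mul, Ideal.mul_top]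
  choose v hv using fun k => IsPrecomplete.prec (I := maximalIdeal A) (inferInstance : IsPrecomplete _ A)
    (f := fun N => (s N).1 k) (fun {N M} h => hsm.mpr (by
      rw [← neg_sub]
      exact neg_mem (Ideal.pow_right_mono hJ N (Ideal.pow_le_pow_right (by omega) (hle N M h k)))))
  refine ⟨v, fun j => ?_, fun k => mem_of_forall_sup_pow J fun N => ?_⟩
  · refine IsHausdorff.haus (inferInstance : IsHausdorff (maximalIdeal A) A) _ fun N => hsm.mpr ?_
    rw [sub_zero, show dot v (w j) = dot (s N).1 (w j) - ∑ k, w j k * ((s N).1 k - v k) by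
      simp [dot_apply, mul_sub, Finset.sum_sub_distrib]]
    exact sub_mem (Ideal.pow_right_mono hJ N (Ideal.pow_le_pow_right (by omega) ((s N).2 j)))
      (Ideal.sum_mem _ fun k _ => Ideal.mul_mem_left _ _ (hsm.mp (hv k N)))
  · refine Submodule.mem_sup.mpr ⟨(s N).1 k - u₀ k, ?_, v k - (s N).1 k, ?_, by ring⟩
    · have h0 := hle 0 N (Nat.zero_le N) k
      exact Ideal.pow_le_self one_ne_zero h0
    · rw [← neg_sub]
      exact neg_mem (hsm.mp (hv k N))

end Groth.Agent.ParaDef
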