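import Mathlib

/-!
# Extending functionals through a regular sequence of length three

The obstruction to lifting a functional on a module which is free of rank one on the punctured spectrum lives in a
group that vanishes in depth three; this is the explicit form of that vanishing.
-/

set_option linter.style.haveILetI false

universe u v

namespace Groth.Agent.ParaDef

variable {A : Type u} [CommRing A] {n : ℕ} {F : Type v} [AddCommGroup F] [Module A F]

/-- Three elements form a weakly regular sequence on a module. -/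
structure Reg3 (F : Type v) [AddCommGroup F] [Module A F] (a b c : A) : Prop where
  reg₁ : ∀ x : F, a • x = 0 → x = 0
  reg₂ : ∀ x y : F, b • x = a • y → ∃ z, x = a • z
  reg₃ : ∀ x y z : F, c • x = a • y + b • z → ∃ p q, x = a • p + b • q

/-- A functional extends over elements carried into its domain by the first two members. -/
theorem extend_step {a b c : A} (h : Reg3 F a b c) (L L' : Submodule A (Fin n → A)) (φ : L →ₗ[A] F)
    (ha : ∀ y ∈ L', a • y ∈ L) (hb : ∀ y ∈ L', b • y ∈ L) :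
    ∃ φ' : L' →ₗ[A] F, ∀ x (hx : x ∈ L) (hx' : x ∈ L'), φ' ⟨x, hx'⟩ = φ ⟨x, hx⟩ := by
  have key : ∀ y : L', ∃ z : F, a • z = φ ⟨a • (y : Fin n → A), ha _ y.2⟩ := fun y => by
    obtain ⟨z, hz⟩ := h.reg₂ (φ ⟨a • (y : Fin n → A), ha _ y.2⟩) (φ ⟨b • (y : Fin n → A), hb _ y.2⟩) (by
      rw [← map_smul, ← map_smul]
      exact congrArg φ (Subtype.ext (smul_comm b a (y : Fin n → A))))
    exact ⟨z, hz.symm⟩
  choose z hz using key
  have inj : ∀ x y : F, a • x = a • y → x = y := fun x y hxy =>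
    sub_eq_zero.mp (h.reg₁ _ (by rw [smul_sub, hxy, sub_self]))
  refine ⟨{ toFun := z, map_add' := fun x y => inj _ _ ?_, map_smul' := fun r x => inj _ _ ?_ }, fun x hx hx' => ?_⟩
  · rw [smul_add, hz, hz, hz, ← map_add]
    exact congrArg φ (Subtype.ext (smul_add a _ _))
  · rw [hz, RingHom.id_apply, smul_comm, hz, ← map_smul]
    exact congrArg φ (Subtype.ext (smul_comm a r (x : Fin n → A)))
  · refine inj (z ⟨x, hx'⟩) _ ?_
    rw [hz, ← map_smul]
    rfl

/-- A functional extends over the saturation of its domain with respect to the first two members. -/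
theorem extend_saturation [IsNoetherianRing A] {a b c : A} (h : Reg3 F a b c) (L T : Submodule A (Fin n → A))
    (hLT : L ≤ T) (hT : ∀ y ∈ T, ∃ N : ℕ, a ^ N • y ∈ L ∧ b ^ N • y ∈ L) (φ : L →ₗ[A] F) :
    ∃ ψ : T →ₗ[A] F, ∀ x (hx : x ∈ L) (hx' : x ∈ T), ψ ⟨x, hx'⟩ = φ ⟨x, hx⟩ := by
  let S : Set (Submodule A (Fin n → A)) := { L₁ | L ≤ L₁ ∧ L₁ ≤ T ∧
    ∃ φ₁ : L₁ →ₗ[A] F, ∀ x (hx : x ∈ L) (hx' : x ∈ L₁), φ₁ ⟨x, hx'⟩ = φ ⟨x, hx⟩ }
  obtain ⟨L₁, ⟨hL, hT₁, φ₁, hφ₁⟩, hmax⟩ :=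
    set_has_maximal_iff_noetherian.mpr (inferInstance : IsNoetherian A (Fin n → A)) S
      ⟨L, le_rfl, hLT, φ, fun _ _ _ => rfl⟩
  suffices hTL : T ≤ L₁ by
    refine ⟨φ₁.comp (Submodule.inclusion hTL), fun x hx hx' => hφ₁ x hx (hTL hx')⟩
  let L₂ : Submodule A (Fin n → A) := T ⊓ (L₁.comap (LinearMap.lsmul A (Fin n → A) a)) ⊓
    (L₁.comap (LinearMap.lsmul A (Fin n → A) b))
  have h12 : L₁ ≤ L₂ := fun x hx => ⟨⟨hT₁ hx, L₁.smul_mem a hx⟩, L₁.smul_mem b hx⟩
  obtain ⟨φ₂, hφ₂⟩ := extend_step h L₁ L₂ φ₁ (fun y hy => hy.1.2) (fun y hy => hy.2)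
  have heq : L₂ ≤ L₁ := by
    by_contra hc
    exact hmax L₂ ⟨hL.trans h12, fun x hx => hx.1.1, φ₂, fun x hx hx' => by
      rw [hφ₂ x (hL hx) hx', hφ₁]⟩ (lt_of_le_of_ne h12 fun he => hc he.ge)
  intro y hy
  obtain ⟨N, hNa, hNb⟩ := hT y hy
  suffices ∀ d i j : ℕ, i ≤ N → j ≤ N → i + j + d = N + N → (a ^ i * b ^ j) • y ∈ L₁ by
    simpa using this (N + N) 0 0 (Nat.zero_le _) (Nat.zero_le _) (by omega)
  intro d
  induction d with
  | zero =>
    intro i j hi hj hd
    rw [show i = N by omega, show j = N by omega, mul_comm, mul_smul]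
    exact L₁.smul_mem _ (hL hNa)
  | succ d ih =>
    intro i j hi hj hd
    refine heq ⟨⟨T.smul_mem _ hy, ?_⟩, ?_⟩
    · show a • (a ^ i * b ^ j) • y ∈ L₁
      rw [smul_smul, ← mul_assoc, ← pow_succ']
      rcases hi.lt_or_eq with hi' | rfl
      · exact ih (i + 1) j hi' hj (by omega)
      · rw [pow_succ, mul_right_comm, mul_comm, mul_smul]
        exact L₁.smul_mem _ (by rw [mul_comm, mul_smul]; exact L₁.smul_mem _ (hL hNa))
    · show b • (a ^ i * b ^ j) • y ∈ L₁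
      rw [smul_smul, mul_left_comm, ← pow_succ']
      rcases hj.lt_or_eq with hj' | rfl
      · exact ih i (j + 1) hi hj' (by omega)
      · rw [pow_succ, ← mul_assoc, mul_comm, mul_smul]
        exact L₁.smul_mem _ (by rw [mul_smul]; exact L₁.smul_mem _ (hL hNb))

/-- A functional on the kernel of a functional modulo an annihilating ideal extends to the whole free module. -/
theorem extend_top {a b c : A} (h : Reg3 F a b c) (J : Ideal A) (hJF : ∀ r ∈ J, ∀ x : F, r • x = 0)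
    (Λ : (Fin n → A) →ₗ[A] A) (za zb zc : Fin n → A) (hza : Λ za - a ∈ J) (hzb : Λ zb - b ∈ J) (hzc : Λ zc - c ∈ J)
    (φ : Submodule.comap Λ J →ₗ[A] F)
    (hφJ : ∀ r ∈ J, ∀ y : Fin n → A, ∀ h : r • y ∈ Submodule.comap Λ J, φ ⟨r • y, h⟩ = 0) :
    ∃ U : (Fin n → A) →ₗ[A] F, ∀ x (hx : x ∈ Submodule.comap Λ J), U x = φ ⟨x, hx⟩ := by
  have sm : ∀ {r s : A}, r - s ∈ J → ∀ x : F, r • x = s • x := fun {r s} hrs x =>
    sub_eq_zero.mp (by rw [← sub_smul]; exact hJF _ hrs x)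
  have mA : ∀ y : Fin n → A, Λ y • za - a • y ∈ Submodule.comap Λ J := fun y => by
    show Λ (Λ y • za - a • y) ∈ J
    rw [map_sub, map_smul, map_smul, smul_eq_mul, smul_eq_mul,
      show Λ y * Λ za - a * Λ y = Λ y * (Λ za - a) by ring]
    exact J.mul_mem_left _ hza
  have mB : ∀ y : Fin n → A, Λ y • zb - b • y ∈ Submodule.comap Λ J := fun y => by
    show Λ (Λ y • zb - b • y) ∈ J
    rw [map_sub, map_smul, map_smul, smul_eq_mul, smul_eq_mul,
      show Λ y * Λ zb - b * Λ y = Λ y * (Λ zb - b) by ring]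
    exact J.mul_mem_left _ hzb
  have mab : b • za - a • zb ∈ Submodule.comap Λ J := by
    show Λ (b • za - a • zb) ∈ J
    rw [map_sub, map_smul, map_smul, smul_eq_mul, smul_eq_mul,
      show b * Λ za - a * Λ zb = b * (Λ za - a) - a * (Λ zb - b) by ring]
    exact sub_mem (J.mul_mem_left _ hza) (J.mul_mem_left _ hzb)
  let δ : F := φ ⟨b • za - a • zb, mab⟩
  have key : ∀ y : Fin n → A, b • φ ⟨Λ y • za - a • y, mA y⟩ =
      Λ y • δ + a • φ ⟨Λ y • zb - b • y, mB y⟩ := fun y => by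
    simp only [δ]
    rw [← map_smul, ← map_smul, ← map_smul, ← map_add]
    refine congrArg φ (Subtype.ext ?_)
    show b • (Λ y • za - a • y) = Λ y • (b • za - a • zb) + a • (Λ y • zb - b • y)
    simp only [smul_sub, smul_smul]
    rw [mul_comm b (Λ y), mul_comm a (Λ y), mul_comm b a]
    abel
  -- the constant
  obtain ⟨p, q, hpq⟩ : ∃ p q : F, δ = a • p + b • q := by
    have hc : ∀ y : Fin n → A, ∃ y' z', Λ y • δ = a • y' + b • z' := fun y =>
      ⟨-φ ⟨Λ y • zb - b • y, mB y⟩, φ ⟨Λ y • za - a • y, mA y⟩, by rw [smul_neg, key y]; abel⟩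
    obtain ⟨y', z', hyz⟩ := hc zc
    exact h.reg₃ δ y' z' (by rw [← sm hzc δ, hyz])
  have key2 : ∀ y : Fin n → A, ∃ z : F, Λ y • q - φ ⟨Λ y • za - a • y, mA y⟩ = a • z := fun y => by
    refine h.reg₂ _ (-(Λ y • p) - φ ⟨Λ y • zb - b • y, mB y⟩) ?_
    rw [smul_sub b, key y, hpq, smul_add, smul_sub, smul_neg, smul_comm b (Λ y) q, smul_comm a (Λ y) p]
    abel
  choose U hU using key2
  have inj : ∀ x y : F, a • x = a • y → x = y := fun x y hxy =>
    sub_eq_zero.mp (h.reg₁ _ (by rw [smul_sub, hxy, sub_self]))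
  refine ⟨{ toFun := U, map_add' := fun x y => inj _ _ ?_, map_smul' := fun r x => inj _ _ ?_ }, fun x hx => ?_⟩
  · rw [smul_add, ← hU, ← hU, ← hU]
    have : (⟨Λ (x + y) • za - a • (x + y), mA (x + y)⟩ : Submodule.comap Λ J) =
        ⟨Λ x • za - a • x, mA x⟩ + ⟨Λ y • za - a • y, mA y⟩ := Subtype.ext (by
      show Λ (x + y) • za - a • (x + y) = (Λ x • za - a • x) + (Λ y • za - a • y)
      rw [map_add, add_smul, smul_add]; abel)
    rw [this, map_add, map_add, add_smul]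
    abel
  · rw [← hU, RingHom.id_apply, smul_comm a r (U x), ← hU]
    have : (⟨Λ (r • x) • za - a • (r • x), mA (r • x)⟩ : Submodule.comap Λ J) = r • ⟨Λ x • za - a • x, mA x⟩ :=
      Subtype.ext (by
        show Λ (r • x) • za - a • (r • x) = r • (Λ x • za - a • x)
        rw [map_smul, smul_eq_mul, mul_smul, smul_sub, smul_comm a r x])
    rw [this, map_smul, map_smul, smul_eq_mul, mul_smul, smul_sub]
  · refine inj (U x) _ ?_
    have hΛ : Λ x ∈ J := hx
    have hmem : Λ x • za ∈ Submodule.comap Λ J := by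
      show Λ (Λ x • za) ∈ J
      rw [map_smul]
      exact J.mul_mem_right _ hΛ
    have : (⟨Λ x • za - a • x, mA x⟩ : Submodule.comap Λ J) = ⟨Λ x • za, hmem⟩ - a • ⟨x, hx⟩ := Subtype.ext rfl
    rw [← hU, hJF _ hΛ q, this, map_sub, hφJ _ hΛ za hmem, map_smul, zero_sub, zero_sub, neg_neg]

end Groth.Agent.ParaDef
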